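import Groth.Agent.EtZar.K997.Acyc

/-!
# Vanishing of Zariski cohomology on an affine scheme from étale vanishing

`zariskiH_subsingleton`: for `S` affine and `G` with `AffVan G`, `H^i(S_Zar, G) = 0` for `i ≥ 1`.
-/

set_option autoImplicit false

universe u

open CategoryTheory CategoryTheory.Limits AlgebraicGeometry Opposite

namespace K997.EtZarAff

open K997.EtZarAcyc Groth.Agent.Etbase Groth.Agent.Etbase.SieveCartan

theorem etH_subsingleton_of_affVan (S : Scheme.{u}) [IsAffine S] (G : EtCoh.Ab S) (hG : AffVan G) (n : ℕ) :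
    Subsingleton (EtCoh.H S G (n + 1)) := by
  refine H_subsingleton_of_class (EtCore.topIsTerminal S) (fun F => AffVan F) ?_ n G hG
  intro F hF
  let P : InjectivePresentation F := Classical.arbitrary _
  have hS : (ShortComplex.mk P.f (cokernel.π P.f) (cokernel.condition P.f)).ShortExact :=
    { exact := ShortComplex.exact_cokernel P.f }
  have hP : Injective (ShortComplex.mk P.f (cokernel.π P.f) (cokernel.condition P.f)).X₂ := P.injective
  have h := affVan_step hS hF
  refine ⟨P.J, cokernel P.f, P.f, cokernel.π P.f, cokernel.condition P.f, hS, P.injective, ?_, h.1⟩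
  apply h.2
  change IsAffine S
  infer_instance

theorem zariskiH_subsingleton (S : Scheme.{u}) [IsAffine S] [EtZar.ZarCont S] (G : EtCoh.Ab S)
    (hG : AffVan G) (i : ℕ) (hi : 1 ≤ i) :
    Subsingleton (EtZar.H ((EtZar.resZar S).obj G) i) := by
  obtain ⟨n, rfl⟩ : ∃ n, i = n + 1 := ⟨i - 1, by omega⟩
  have h1 : Subsingleton (EtCoh.H S G (n + 1)) := etH_subsingleton_of_affVan S G hG n
  have h2 := zcmp_bijective_of_affVan G hG (n + 1)
  constructor
  intro a b
  exact h2.1 (h1.elim _ _)

end K997.EtZarAff
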