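import Groth.Agent.Proet.IndEtaleLift
import Groth.Agent.Proet.IndEtale
import Groth.Agent.Hensel.PairEtale

/-!
# Ind-étale henselization along a surjection

`exists_henselian_lift`: for `A → R` surjective and `Cb` ind-étale over `R` there is an ind-étale `A`-algebra `C`
with a surjection `π : C → Cb` such that `(C, ker π)` is a henselian pair.
-/

set_option autoImplicit false
universe u

open CategoryTheory CategoryTheory.Limits

namespace K997.HensLift

open Groth.Agent.Proet.EtaleCoref

section UP

variable {A C B : Type u} [CommRing A] [CommRing C] [CommRing B] [Algebra A C] [Algebra A B]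

/-- Unique lifting of maps from étale algebras. -/
def UP (π : C →ₐ[A] B) : Prop := ∀ (W : Type u) [CommRing W] [Algebra A W], Algebra.Etale A W →
  ∀ g : W →ₐ[A] B, ∃! h : W →ₐ[A] C, π.comp h = g

theorem UP.exists_unique {π : C →ₐ[A] B} (hπ : UP π) (S : Type u) [CommRing S] [Algebra A S]
    (hS : EtPBC.IsIndEtale A S) (g : S →ₐ[A] B) : ∃! h : S →ₐ[A] C, π.comp h = g := by
  obtain ⟨J, _, _, D, c, hc, hD, ⟨i⟩⟩ := hS
  let inst : ∀ j, Algebra A (D.obj j).right := fun j => (D.obj j).hom.hom.toAlgebra
  let b : ∀ j, (D.obj j).right →ₐ[A] S := fun j => mkAH (c.ι.app j ≫ i.hom).right.hom (by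
    have := Under.w (c.ι.app j ≫ i.hom)
    exact congrArg (fun f => f.hom) this)
  let t : ∀ {j k : J} (_ : j ⟶ k), (D.obj j).right →ₐ[A] (D.obj k).right := fun f =>
    mkAH (D.map f).right.hom (by
      have := Under.w (D.map f)
      exact congrArg (fun f => f.hom) this)
  have hb : ∀ {j k : J} (f : j ⟶ k), (b k).comp (t f) = b j := by
    intro j k f
    have h := c.w f
    apply AlgHom.ext
    intro x
    change i.hom.right.hom ((c.ι.app k).right.hom ((D.map f).right.hom x)) = i.hom.right.hom ((c.ι.app j).right.hom x)
    rw [← h]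
    rfl
  choose h hh hu using fun j => hπ (D.obj j).right (hD j) (g.comp (b j))
  have ht : ∀ {j k : J} (f : j ⟶ k), (h k).comp (t f) = h j := by
    intro j k f
    refine hu j _ ?_
    change π.comp ((h k).comp (t f)) = g.comp (b j)
    rw [← AlgHom.comp_assoc]
    have := hh k
    change π.comp (h k) = g.comp (b k) at this
    rw [this, AlgHom.comp_assoc, hb]
  let cC : Cocone D :=
    { pt := Under.mk (CommRingCat.ofHom (algebraMap A C))
      ι :=
        { app := fun j => Under.homMk (CommRingCat.ofHom (h j).toRingHom) (by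
            apply CommRingCat.hom_ext
            apply RingHom.ext
            intro r
            exact (h j).commutes r)
          naturality := fun j k f => by
            apply Under.UnderMorphism.ext
            apply CommRingCat.hom_ext
            apply RingHom.ext
            intro x
            exact congrArg (fun (g : (D.obj j).right →ₐ[A] C) => g x) (ht f) } }
  let φ : Under.mk (CommRingCat.ofHom (algebraMap A S)) ⟶ cC.pt := i.inv ≫ hc.desc cC
  let h₀ : S →ₐ[A] C := mkAH φ.right.hom (by
    have := Under.w φ
    exact congrArg (fun f => f.hom) this)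
  -- two maps out of `S` agreeing on all `D.obj j` are equal
  have ext : ∀ {T : Type u} [CommRing T] [Algebra A T] (u v : S →ₐ[A] T), (∀ j, u.comp (b j) = v.comp (b j)) →
      u = v := by
    intro T _ _ u v huv
    let U : Under.mk (CommRingCat.ofHom (algebraMap A S)) ⟶ Under.mk (CommRingCat.ofHom (algebraMap A T)) :=
      Under.homMk (CommRingCat.ofHom u.toRingHom) (by
        apply CommRingCat.hom_ext
        apply RingHom.ext
        intro r
        exact u.commutes r)
    let V : Under.mk (CommRingCat.ofHom (algebraMap A S)) ⟶ Under.mk (CommRingCat.ofHom (algebraMap A T)) :=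
      Under.homMk (CommRingCat.ofHom v.toRingHom) (by
        apply CommRingCat.hom_ext
        apply RingHom.ext
        intro r
        exact v.commutes r)
    have hUV : U = V := by
      rw [← cancel_epi i.hom]
      refine hc.hom_ext fun j => ?_
      apply Under.UnderMorphism.ext
      apply CommRingCat.hom_ext
      apply RingHom.ext
      intro x
      exact congrArg (fun (g : (D.obj j).right →ₐ[A] T) => g x) (huv j)
    apply AlgHom.ext
    intro x
    exact congrArg (fun (f : Under.mk (CommRingCat.ofHom (algebraMap A S)) ⟶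
      Under.mk (CommRingCat.ofHom (algebraMap A T))) => f.right.hom x) hUV
  have hb0 : ∀ j, h₀.comp (b j) = h j := by
    intro j
    have h1 := hc.fac cC j
    apply AlgHom.ext
    intro x
    change (hc.desc cC).right.hom (i.inv.right.hom (i.hom.right.hom ((c.ι.app j).right.hom x))) = h j x
    have h2 : i.inv.right.hom (i.hom.right.hom ((c.ι.app j).right.hom x)) = (c.ι.app j).right.hom x :=
      congrArg (fun f => f.right.hom ((c.ι.app j).right.hom x)) i.hom_inv_id
    rw [h2]
    exact congrArg (fun f => f.right.hom x) h1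
  refine ⟨h₀, ext _ _ fun j => ?_, fun h' hh' => ext _ _ fun j => ?_⟩
  · rw [AlgHom.comp_assoc, hb0]
    exact hh j
  · rw [hb0]
    refine hu j _ ?_
    change π.comp (h'.comp (b j)) = g.comp (b j)
    rw [← AlgHom.comp_assoc]
    have : π.comp h' = g := hh'
    rw [this]

theorem isIndEtale_of_etale (R S : Type u) [CommRing R] [CommRing S] [Algebra R S] [hS : Algebra.Etale R S] :
    EtPBC.IsIndEtale R S := by
  refine ⟨Discrete PUnit.{u + 1}, inferInstance, inferInstance,
    (Functor.const _).obj (Under.mk (CommRingCat.ofHom (algebraMap R S))),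
    { pt := Under.mk (CommRingCat.ofHom (algebraMap R S)), ι := { app := fun _ => 𝟙 _ } },
    { desc := fun s => s.ι.app ⟨PUnit.unit⟩
      fac := fun s j => by
        obtain ⟨⟨⟩⟩ := j
        exact Category.id_comp _
      uniq := fun s m hm => by
        rw [← hm ⟨PUnit.unit⟩]
        exact (Category.id_comp _).symm }, fun _ => ?_, ⟨Iso.refl _⟩⟩
  change @Algebra.Etale R S _ _ (algebraMap R S).toAlgebra
  have : (algebraMap R S).toAlgebra = (inferInstance : Algebra R S) := Algebra.algebra_ext _ _ fun r => rfl
  rw [this]
  exact hS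

theorem UP.henselianRing {π : C →ₐ[A] B} (hπ : UP π) (hC : EtPBC.IsIndEtale A C) (hs : Function.Surjective π) :
    HenselianRing C (RingHom.ker π) := by
  refine Groth.Agent.Hensel.PairEtale.henselianRing_of_lift fun S _ _ _ σ => ?_
  let e : (C ⧸ RingHom.ker π) ≃ₐ[A] B := Ideal.quotientKerAlgEquivOfSurjective hs
  letI : Algebra A S := ((algebraMap C S).comp (algebraMap A C)).toAlgebra
  have : IsScalarTower A C S := IsScalarTower.of_algebraMap_eq fun r => rfl
  have hS : EtPBC.IsIndEtale A S :=
    Groth.Agent.Proet.IndEtale.isIndEtale_trans A C S hC (isIndEtale_of_etale C S)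
  let g : S →ₐ[A] B := e.toAlgHom.comp (σ.restrictScalars A)
  obtain ⟨h, hh, -⟩ := hπ.exists_unique S hS g
  have hh' : ∀ s, π (h s) = e (σ s) := fun s => congrArg (fun f : S →ₐ[A] B => f s) hh
  have hid : h.comp (IsScalarTower.toAlgHom A C S) = AlgHom.id A C := by
    obtain ⟨h1, -, hu⟩ := hπ.exists_unique C hC π
    rw [hu (h.comp (IsScalarTower.toAlgHom A C S)) ?_, hu (AlgHom.id A C) ?_]
    · change π.comp (AlgHom.id A C) = π
      rfl
    · change π.comp (h.comp (IsScalarTower.toAlgHom A C S)) = π
      apply AlgHom.ext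
      intro c
      change π (h (algebraMap C S c)) = π c
      rw [hh', σ.commutes]
      rfl
  refine ⟨{ h.toRingHom with commutes' := fun c => congrArg (fun f : C →ₐ[A] C => f c) hid }, ?_⟩
  apply AlgHom.ext
  intro s
  apply e.injective
  change e (Ideal.Quotient.mk _ (h s)) = e (σ s)
  rw [← hh']
  rfl

end UP

theorem exists_henselian_lift {A R Cb : Type u} [CommRing A] [CommRing R] [Algebra A R]
    (hs : Function.Surjective (algebraMap A R)) [CommRing Cb] [Algebra R Cb] [Algebra A Cb]
    [IsScalarTower A R Cb] (h : EtPBC.IsIndEtale R Cb) :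
    ∃ (C : Type u) (_ : CommRing C) (_ : Algebra A C) (π : C →ₐ[A] Cb),
      EtPBC.IsIndEtale A C ∧ Function.Surjective π ∧ HenselianRing C (RingHom.ker π) := by
  obtain ⟨C, i1, i2, π, h1, h2, -, h4⟩ := Groth.Agent.Proet.IndEtaleLift.exists_indEtale_lift hs h
  exact ⟨C, i1, i2, π, h1, h2, UP.henselianRing (π := π) h4 h1 h2⟩

end K997.HensLift
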