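import Groth.Agent.EtZar.K997.Aff
import Groth.Agent.EtZar.K997.HensLift
import Groth.Agent.EtpbcB.LimVan
import Groth.Agent.Sga4h.EtLim
import Groth.Agent.S0121
import Groth.Agent.Etrest.HPush
import Groth.Agent.Etcore.Torsion
import Groth.Agent.EtpbcB.TorsEt

/-!
# Vanishing on étale affine schemes, limits, and restriction to closed subschemes of affine schemes

* `affVan_of_etAcyc`: `EtAcyc` sheaves satisfy `AffVan`.
* `H_indEtale`: `AffVan` sheaves have no higher cohomology on ind-étale algebras.
* `affVan_pull_quotient`: for `G` torsion with `AffVan G` on `Spec A`, the inverse image of `G` on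
  `Spec (A/I)` satisfies `AffVan`.
-/

set_option autoImplicit false

universe u

open CategoryTheory CategoryTheory.Limits AlgebraicGeometry Opposite

namespace K997.Hens

open K997.EtZarAcyc K997.EtZarAff Groth.Agent.Etbase Groth.Agent.CurvesA.CohBasic
  Groth.Agent.EtpbcB.IsoTransport

variable {X : Scheme.{u}}

/-- Surjectivity on global sections of the restrictions to `T` from surjectivity on sections over `T`. -/
theorem surj_pull (T : X.Etale) {F G : EtCoh.Ab X} (φ : F ⟶ G)
    (h : Function.Surjective (φ.hom.app (op T))) :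
    Function.Surjective (((EtCoh.pull T.hom).map φ).hom.app (op (EtCoh.top T.left))) := by
  have hT : Etale T.hom := T.prop
  have hc := Groth.Agent.Sga4h.EtaleRes.jCont T.hom
  let e := Groth.Agent.Etcore.ShriekBasic.pullIsoRestr T.hom
  have hnat := e.inv.naturality φ
  have h1 : Function.Surjective (φ.hom.app (op ((EtShriek.compEtale T.hom).obj (EtCoh.top T.left)))) := by
    intro s
    obtain ⟨t, ht⟩ := h (G.obj.map (topIso T).hom.op s)
    refine ⟨F.obj.map (topIso T).inv.op t, ?_⟩
    have h5 := ConcreteCategory.congr_hom (φ.hom.naturality (topIso T).inv.op) t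
    refine h5.trans ?_
    refine (congrArg (G.obj.map (topIso T).inv.op) ht).trans ?_
    have h6 : G.obj.map (topIso T).hom.op ≫ G.obj.map (topIso T).inv.op = 𝟙 _ := by
      rw [← G.obj.map_comp, ← op_comp, (topIso T).inv_hom_id, op_id, G.obj.map_id]
    exact ConcreteCategory.congr_hom h6 s
  intro s
  let s' : ((EtShriek.restrAlong T.hom).obj G).obj.obj (op (EtCoh.top T.left)) :=
    (e.hom.app G).hom.app (op (EtCoh.top T.left)) s
  obtain ⟨t, ht⟩ := h1 s'
  let t' : ((EtShriek.restrAlong T.hom).obj F).obj.obj (op (EtCoh.top T.left)) := t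
  have ht' : ((EtShriek.restrAlong T.hom).map φ).hom.app (op (EtCoh.top T.left)) t' = s' := ht
  refine ⟨(e.inv.app F).hom.app (op (EtCoh.top T.left)) t', ?_⟩
  have h3 := ConcreteCategory.congr_hom (congrArg (fun ψ => ψ.hom.app (op (EtCoh.top T.left))) hnat) t'
  refine h3.symm.trans ?_
  have h4 := ConcreteCategory.congr_hom
    (congrArg (fun ψ => ψ.hom.app (op (EtCoh.top T.left))) (e.hom_inv_id_app G)) s
  refine Eq.trans ?_ h4
  exact congrArg ((e.inv.app G).hom.app (op (EtCoh.top T.left))) ht'

theorem affVan_of_etAcyc_aux (i : ℕ) : ∀ (F : EtCoh.Ab X), EtCartan.EtAcyc F.obj → ∀ (T : X.Etale),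
    IsAffine T.left → Subsingleton (EtCoh.H T.left ((EtCoh.pull T.hom).obj F) (i + 1)) := by
  induction i with
  | zero =>
    intro F hF T hT
    have hT' : Etale T.hom := T.prop
    let P : InjectivePresentation F := Classical.arbitrary _
    have hS : (ShortComplex.mk P.f (cokernel.π P.f) (cokernel.condition P.f)).ShortExact :=
      { exact := ShortComplex.exact_cokernel P.f }
    have := P.injective
    have h := EtCartan.etAcyc_step P.f (cokernel.π P.f) (cokernel.condition P.f) hS hF
    have hinj : Injective ((ShortComplex.mk P.f (cokernel.π P.f) (cokernel.condition P.f)).map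
        (EtCoh.pull T.hom)).X₂ := Groth.Agent.S0623.injective_pull T.hom P.J
    exact van_one (pull_shortExact T.hom hS) (@van_injective _ _ hinj 1 one_pos) (surj_pull T _ (h.1 T hT))
  | succ i ih =>
    intro F hF T hT
    have hT' : Etale T.hom := T.prop
    let P : InjectivePresentation F := Classical.arbitrary _
    have hS : (ShortComplex.mk P.f (cokernel.π P.f) (cokernel.condition P.f)).ShortExact :=
      { exact := ShortComplex.exact_cokernel P.f }
    have := P.injective
    have h := EtCartan.etAcyc_step P.f (cokernel.π P.f) (cokernel.condition P.f) hS hF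
    have hinj : Injective ((ShortComplex.mk P.f (cokernel.π P.f) (cokernel.condition P.f)).map
        (EtCoh.pull T.hom)).X₂ := Groth.Agent.S0623.injective_pull T.hom P.J
    exact van_succ (pull_shortExact T.hom hS) (i + 1) (@van_injective _ _ hinj _ (by omega)) (ih _ h.2 T hT)

theorem affVan_of_etAcyc (F : EtCoh.Ab X) (hF : EtCartan.EtAcyc F.obj) : AffVan F := by
  intro T hT i hi
  obtain ⟨n, rfl⟩ : ∃ n, i = n + 1 := ⟨i - 1, by omega⟩
  exact affVan_of_etAcyc_aux n F hF T hT

theorem H_indEtale (A C : Type u) [CommRing A] [CommRing C] [Algebra A C] (hC : EtPBC.IsIndEtale A C)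
    (G : EtCoh.Ab (Spec (CommRingCat.of A))) (hG : AffVan G) (n : ℕ) (hn : 1 ≤ n) :
    Subsingleton (EtCoh.H (Spec (CommRingCat.of C))
      ((EtCoh.pull (Spec.map (CommRingCat.ofHom (algebraMap A C)))).obj G) n) := by
  have h := Groth.Agent.Sga4h.EtLim.isEtLim_of_isIndEtale hC (𝟙 (Spec (CommRingCat.of A)))
  rw [Category.comp_id] at h
  obtain ⟨ι, _, _, _, D, π, hl, h1, h2, h3⟩ := h
  refine Groth.Agent.EtpbcB.LimVan.subsingleton_H_poset (D ⋙ Over.forget _) ?_ ?_ ?_ (Cone.mk _ π) hl
    (fun i => (D.obj i).hom) (fun f => Over.w (D.map f)) _ h3 G n ?_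
  · intro a b f
    have := h2 a
    have := h2 b
    change IsAffineHom (D.map f).left
    infer_instance
  · intro a
    have := h2 a
    change CompactSpace (D.obj a).left
    infer_instance
  · intro a
    have := h2 a
    change QuasiSeparatedSpace (D.obj a).left
    infer_instance
  · intro i
    have := h1 i
    exact hG (Scheme.Etale.mk (D.obj i).hom) (h2 i) n hn

/-- Étale algebra form. -/
theorem H_quotient (A : Type u) [CommRing A] (I : Ideal A) (G : EtCoh.Ab (Spec (CommRingCat.of A)))
    (hG : AffVan G) (ht : EtCoh.IsTorsion G) (Cb : Type u) [CommRing Cb] [Algebra A Cb] [Algebra (A ⧸ I) Cb]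
    [IsScalarTower A (A ⧸ I) Cb] (hCb : Algebra.Etale (A ⧸ I) Cb) (n : ℕ) (hn : 1 ≤ n) :
    Subsingleton (EtCoh.H (Spec (CommRingCat.of Cb))
      ((EtCoh.pull (Spec.map (CommRingCat.ofHom (algebraMap A Cb)))).obj G) n) := by
  obtain ⟨C, _, _, π, hC, hs, hH⟩ := K997.HensLift.exists_henselian_lift (A := A) (R := A ⧸ I) (Cb := Cb)
    Ideal.Quotient.mk_surjective (K997.HensLift.isIndEtale_of_etale (A ⧸ I) Cb)
  let J : Ideal C := RingHom.ker π
  let e : (C ⧸ J) ≃ₐ[A] Cb := Ideal.quotientKerAlgEquivOfSurjective hs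
  let a : Spec (CommRingCat.of C) ⟶ Spec (CommRingCat.of A) := Spec.map (CommRingCat.ofHom (algebraMap A C))
  let i : Spec (CommRingCat.of (C ⧸ J)) ⟶ Spec (CommRingCat.of C) :=
    Spec.map (CommRingCat.ofHom (Ideal.Quotient.mk J))
  let G' := (EtCoh.pull a).obj G
  have h1 : Subsingleton (EtCoh.H (Spec (CommRingCat.of C)) G' n) := H_indEtale A C hC G hG n hn
  have h2 : EtCoh.IsTorsion G' := Groth.Agent.Etcore.Torsion.isTorsion_pull a G ht
  have h3 := Groth.Agent.S0121.result C J G' h2 n
  have h4 : Subsingleton (EtCoh.H (Spec (CommRingCat.of C)) ((EtCoh.push i).obj ((EtCoh.pull i).obj G')) n) :=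
    @Function.Surjective.subsingleton _ _ _ h1 h3.2
  have hcl : IsClosedImmersion i := IsClosedImmersion.spec_of_surjective _ Ideal.Quotient.mk_surjective
  obtain ⟨e5⟩ := Groth.Agent.Etrest.HPush.nonempty_HPushEquiv_of_isFinite i ((EtCoh.pull i).obj G') n
  have h5 : Subsingleton (EtCoh.H (Spec (CommRingCat.of (C ⧸ J))) ((EtCoh.pull i).obj G') n) :=
    e5.injective.subsingleton
  let b : Spec (CommRingCat.of (C ⧸ J)) ⟶ Spec (CommRingCat.of Cb) := Spec.map (CommRingCat.ofHom e.symm.toRingHom)
  have hb : IsIso b := by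
    have : IsIso (CommRingCat.ofHom e.symm.toRingHom) := (e.symm.toRingEquiv.toCommRingCatIso).isIso_hom
    infer_instance
  have hw : b ≫ Spec.map (CommRingCat.ofHom (algebraMap A Cb)) = i ≫ a := by
    rw [← Spec.map_comp, ← Spec.map_comp, ← CommRingCat.ofHom_comp, ← CommRingCat.ofHom_comp]
    congr 2
    ext r
    exact e.symm.commutes r
  have e6 := HIsoOver (Spec.map (CommRingCat.ofHom (algebraMap A Cb))) (i ≫ a) b hw G n
  have e7 := HPullComp i a (i ≫ a) rfl G n
  have h6 : Subsingleton (EtCoh.H (Spec (CommRingCat.of (C ⧸ J))) ((EtCoh.pull (i ≫ a)).obj G) n) :=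
    e7.injective.subsingleton
  exact e6.symm.injective.subsingleton

theorem affVan_pull_quotient (A : Type u) [CommRing A] (I : Ideal A) (G : EtCoh.Ab (Spec (CommRingCat.of A)))
    (hG : AffVan G) (ht : EtCoh.IsTorsion G) :
    AffVan ((EtCoh.pull (Spec.map (CommRingCat.ofHom (Ideal.Quotient.mk I)))).obj G) := by
  intro T hT n hn
  have hTe : Etale T.hom := T.prop
  let Cb : Type u := Γ(T.left, ⊤)
  let τ : T.left ⟶ Spec (CommRingCat.of (A ⧸ I)) := T.hom
  let φ : CommRingCat.of (A ⧸ I) ⟶ Γ(T.left, ⊤) := Spec.preimage (T.left.isoSpec.inv ≫ τ)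
  have hφ : Spec.map φ = T.left.isoSpec.inv ≫ τ := Spec.map_preimage _
  letI a1 : Algebra (A ⧸ I) Cb := φ.hom.toAlgebra
  letI a2 : Algebra A Cb := (φ.hom.comp (Ideal.Quotient.mk I)).toAlgebra
  have t1 : IsScalarTower A (A ⧸ I) Cb := IsScalarTower.of_algebraMap_eq fun r => rfl
  have het : Algebra.Etale (A ⧸ I) Cb := by
    have h1 : Etale (Spec.map φ) := by
      rw [hφ]
      infer_instance
    rw [HasRingHomProperty.Spec_iff (P := @Etale)] at h1
    exact h1
  have h1 := H_quotient A I G hG ht Cb het n hn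
  let i := Spec.map (CommRingCat.ofHom (Ideal.Quotient.mk I))
  have hw : T.left.isoSpec.hom ≫ Spec.map (CommRingCat.ofHom (algebraMap A Cb)) = τ ≫ i := by
    have h2 : CommRingCat.ofHom (algebraMap A Cb) = CommRingCat.ofHom (Ideal.Quotient.mk I) ≫ φ := rfl
    rw [h2, Spec.map_comp, hφ, ← Category.assoc, ← Category.assoc, Iso.hom_inv_id, Category.id_comp]
  have e1 := HIsoOver (Spec.map (CommRingCat.ofHom (algebraMap A Cb))) (τ ≫ i) T.left.isoSpec.hom hw G n
  have e2 := HPullComp τ i (τ ≫ i) rfl G n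
  have h3 : Subsingleton (EtCoh.H T.left ((EtCoh.pull (τ ≫ i)).obj G) n) := e1.injective.subsingleton
  exact e2.symm.injective.subsingleton

end K997.Hens
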