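import Groth.Agent.EtZar.K997.Hens
import Groth.Agent.Desc.EtAssocQC

/-!
# Associated étale sheaves in characteristic `p` are killed by `p`
-/

set_option autoImplicit false

universe u

open CategoryTheory CategoryTheory.Limits AlgebraicGeometry Opposite

namespace K997.Kill

theorem killedBy_of_isAssoc (A : Type u) [CommRing A] (p : ℕ) [CharP A p]
    (F : (Spec (CommRingCat.of A)).Modules) (G : EtCoh.Ab (Spec (CommRingCat.of A)))
    (hG : EtAssoc.IsAssoc F G) : EtCoh.KilledBy p G := by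
  obtain ⟨e, -⟩ := hG
  intro U s
  apply (e U).injective
  rw [map_nsmul, map_zero]
  apply ULift.down_injective
  change p • (e U s).down = 0
  let M := (Scheme.Modules.pullback U.hom).obj F
  let x : Γ(M, ⊤) := (e U s).down
  have h0 : (p : Γ(U.left, ⊤)) = 0 := by
    let φ : A →+* Γ(U.left, ⊤) := ((Scheme.ΓSpecIso (CommRingCat.of A)).inv ≫ U.hom.appTop).hom
    rw [← map_natCast φ, CharP.cast_eq_zero, map_zero]
  have h1 : (p : Γ(U.left, ⊤)) • x = 0 := by rw [h0, zero_smul]
  rw [Nat.cast_smul_eq_nsmul] at h1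
  exact h1

theorem main (A : Type u) [CommRing A] (I : Ideal A) (p : ℕ) [hp : Fact p.Prime] [CharP A p]
    (F : (Spec (CommRingCat.of A)).Modules) [F.IsQuasicoherent] (G : EtCoh.Ab (Spec (CommRingCat.of A)))
    (hG : EtAssoc.IsAssoc F G) [EtZar.ZarCont (Spec (CommRingCat.of (A ⧸ I)))]
    (j : ℕ) (hj : 1 ≤ j) :
    Subsingleton (EtZar.H ((EtZar.resZar (Spec (CommRingCat.of (A ⧸ I)))).obj
      ((EtCoh.pull (Spec.map (CommRingCat.ofHom (Ideal.Quotient.mk I)))).obj G)) j) := by
  refine K997.EtZarAff.zariskiH_subsingleton _ _ ?_ j hj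
  refine K997.Hens.affVan_pull_quotient A I G
    (K997.Hens.affVan_of_etAcyc G (Groth.Agent.Desc.EtAssocQC.etAcyc hG)) ?_
  exact Groth.Agent.EtpbcB.TorsEt.isTorsion_of_killedBy hp.out.pos G (killedBy_of_isAssoc A p F G hG)

end K997.Kill
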